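import Groth.Agent.Lib.CohFound.PushFin
import Groth.Agent.Lib.CohFound.HHBridge

/-!
# Cohomology of direct images along affine morphisms, naturally in the module
-/

universe u

open CategoryTheory TopologicalSpace Opposite CategoryTheory.Limits Abelian AlgebraicGeometry

namespace Groth.Agent.PushNatH7

open CohFound

section Top

variable {X Y : TopCat.{u}}

/-- A morphism of sheaves extended to the injective short exact sequences. -/
noncomputable def injSCHom {F G : CohTop.Ab X} (φ : F ⟶ G) : injSC F ⟶ injSC G :=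
  ShortComplex.homMk φ (Injective.factorThru (φ ≫ Injective.ι G) (Injective.ι F))
    (cokernel.map _ _ φ (Injective.factorThru (φ ≫ Injective.ι G) (Injective.ι F))
      (Injective.comp_factorThru _ _))
    (Injective.comp_factorThru _ _).symm
    (cokernel.π_desc _ _ _).symm

/-- The comparison of dimension shifting can be chosen natural. -/
theorem exists_addEquiv_natural_of_dimShift (Φ : CohTop.Ab X ⥤ CohTop.Ab Y) [Φ.PreservesZeroMorphisms]
    (U : Opens X) (V : Opens Y)
    (e : ∀ F : CohTop.Ab X, (Φ.obj F).obj.obj (op V) ≃+ F.obj.obj (op U))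
    (he : ∀ {F G : CohTop.Ab X} (φ : F ⟶ G) s,
      e G ((Φ.map φ).hom.app (op V) s) = φ.hom.app (op U) (e F s))
    (hI : ∀ I : CohTop.Ab X, Injective I → ∀ n, Subsingleton (Hc (Φ.obj I) (n + 1) V))
    (P : ℕ → CohTop.Ab X → Prop)
    (hP : ∀ m F, P (m + 1) F → ((injSC F).map Φ).ShortExact ∧ P m (injSC F).X₃) (n : ℕ) :
    ∃ ε : ∀ F : CohTop.Ab X, P n F → (Hc (Φ.obj F) n V ≃+ Hc F n U),
      ∀ (F G : CohTop.Ab X) (hF : P n F) (hG : P n G) (φ : F ⟶ G) x,
        ε G hG (mp (Φ.map φ) n V x) = mp φ n U (ε F hF x) := by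
  induction n with
  | zero =>
    refine ⟨fun F _ => (hc0 _ V).trans ((e F).trans (hc0 F U).symm), fun F G _ _ φ x => ?_⟩
    apply (hc0 G U).injective
    simp only [AddEquiv.trans_apply, AddEquiv.apply_symm_apply]
    rw [hc0_mp, he, hc0_mp, AddEquiv.apply_symm_apply]
  | succ n ih =>
    cases n with
    | zero =>
      have hex : ∀ (F : CohTop.Ab X) (hF : P 1 F),
          ∃ ε : Hc (Φ.obj F) 1 V ≃+ Hc F 1 U, ∀ s,
            ε (delta₀ (hP 0 F hF).1 V s) = delta₀ (injSC_shortExact F) U (e _ s) := fun F hF =>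
        exists_descend (delta₀ (hP 0 F hF).1 V) (delta₀ (injSC_shortExact F) U)
          (delta₀_surjective (hP 0 F hF).1 V (hI _ inferInstance 0))
          (delta₀_surjective (injSC_shortExact F) U (subsingleton_hc_injective _ 0 U))
          (e (injSC F).X₃) fun s => by
            rw [← AddMonoidHom.mem_ker, ← AddMonoidHom.mem_ker, delta₀_ker, delta₀_ker]
            constructor
            · rintro ⟨t, rfl⟩
              exact ⟨e _ t, (he (injSC F).g t).symm⟩
            · rintro ⟨t, ht⟩
              refine ⟨(e _).symm t, (e _).injective ?_⟩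
              refine (he (injSC F).g _).trans ?_
              rw [AddEquiv.apply_symm_apply]
              exact ht
      choose ε hε using hex
      refine ⟨ε, fun F G hF hG φ x => ?_⟩
      have hS := injSC_shortExact F
      have hT := injSC_shortExact G
      have hS' := (hP 0 F hF).1
      have hT' := (hP 0 G hG).1
      obtain ⟨s, rfl⟩ := delta₀_surjective hS' V (hI _ inferInstance 0) x
      have hn' : mp (Φ.map φ) 1 V (delta₀ hS' V s) =
          delta₀ hT' V ((Φ.map (injSCHom φ).τ₃).hom.app (op V) s) := by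
        refine (delta_natural hS' hT' (Φ.mapShortComplex.map (injSCHom φ)) 0 V _).trans ?_
        refine congrArg (delta hT' 0 V) ((hc0 _ V).injective ?_)
        exact (hc0_mp _ V _).trans (((congrArg _ (AddEquiv.apply_symm_apply _ _))).trans
          (AddEquiv.apply_symm_apply _ _).symm)
      have hn : ∀ s, mp φ 1 U (delta₀ hS U s) =
          delta₀ hT U ((injSCHom φ).τ₃.hom.app (op U) s) := fun s => by
        refine (delta_natural hS hT (injSCHom φ) 0 U _).trans ?_
        refine congrArg (delta hT 0 U) ((hc0 _ U).injective ?_)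
        exact (hc0_mp _ U _).trans (((congrArg _ (AddEquiv.apply_symm_apply _ _))).trans
          (AddEquiv.apply_symm_apply _ _).symm)
      refine (congrArg (ε G hG) hn').trans ((hε G hG _).trans ?_)
      refine Eq.trans ?_ (congrArg (mp φ 1 U) (hε F hF s)).symm
      exact (congrArg (delta₀ hT U) (he _ s)).trans (hn _).symm
    | succ k =>
      obtain ⟨ε₀, hε₀⟩ := ih
      let d' := fun (F : CohTop.Ab X) (hF : P (k + 2) F) =>
        AddEquiv.ofBijective _ (delta_bijective (hP _ F hF).1 k V (hI _ inferInstance k)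
          (hI _ inferInstance (k + 1)))
      let d := fun (F : CohTop.Ab X) =>
        AddEquiv.ofBijective _ (delta_bijective (injSC_shortExact F) k U (subsingleton_hc_injective _ k U)
          (subsingleton_hc_injective _ (k + 1) U))
      refine ⟨fun F hF => ((d' F hF).symm.trans (ε₀ _ (hP _ F hF).2)).trans (d F), fun F G hF hG φ x => ?_⟩
      obtain ⟨y, rfl⟩ := (d' F hF).surjective x
      have hn' : mp (Φ.map φ) (k + 2) V (d' F hF y) = d' G hG (mp (Φ.map (injSCHom φ).τ₃) (k + 1) V y) :=
        delta_natural (hP _ F hF).1 (hP _ G hG).1 (Φ.mapShortComplex.map (injSCHom φ)) (k + 1) V y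
      rw [hn']
      change d G (ε₀ _ _ ((d' G hG).symm (d' G hG _))) = mp φ (k + 2) U (d F (ε₀ _ _ ((d' F hF).symm (d' F hF y))))
      refine (congrArg (d G) (congrArg (ε₀ _ _) ((d' G hG).symm_apply_apply _))).trans ?_
      refine Eq.trans ?_ (congrArg (mp φ (k + 2) U) (congrArg (d F) (congrArg (ε₀ _ _) ((d' F hF).symm_apply_apply y)))).symm
      exact (congrArg (d G) (hε₀ _ _ _ _ _ y)).trans
        (delta_natural (injSC_shortExact F) (injSC_shortExact G) (injSCHom φ) (k + 1) U _).symm

/-- Cohomology of a direct image, naturally. -/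
theorem exists_hc_push_natural (f : X ⟶ Y) {B : Set (Opens Y)} (hB : Opens.IsBasis B) (n : ℕ) (V : Opens Y) :
    ∃ ε : ∀ F : CohTop.Ab X, PushAcyclicUpTo f B n F →
        (Hc ((CohTop.push f).obj F) n V ≃+ Hc F n ((Opens.map f).obj V)),
      ∀ (F G : CohTop.Ab X) (hF : PushAcyclicUpTo f B n F) (hG : PushAcyclicUpTo f B n G) (φ : F ⟶ G) x,
        ε G hG (mp ((CohTop.push f).map φ) n V x) = mp φ n _ (ε F hF x) := by
  refine exists_addEquiv_natural_of_dimShift (CohTop.push f) ((Opens.map f).obj V) V
    (fun F => AddEquiv.refl _) (fun φ s => rfl) (fun I hI m => ?_) (PushAcyclicUpTo f B)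
    (fun m F hF => ⟨?_, hF.cokernel f⟩) n
  · have := isFlasque_of_injective I
    have : TopCat.Sheaf.IsFlasque ((CohTop.push f).obj I) :=
      TopCat.Sheaf.IsFlasque.pushforward_isFlasque I f
    exact subsingleton_hc_of_isFlasque _ m V
  · exact shortExact_push f (injSC_shortExact F) hB (fun W hW => hF 0 (Nat.succ_pos _) W hW)

end Top

section Scheme

variable {X Y : Scheme.{u}} (f : X ⟶ Y)

theorem pushAcyclic_of_isAffineHom [IsAffineHom f] (M : X.Modules) (hM : Coh.IsQCoh M) (n : ℕ) :
    PushAcyclicUpTo (f.base : sp X ⟶ sp Y) Y.affineOpens n ((abF X).obj M) := fun q _ V hV =>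
  haveI : M.IsQuasicoherent := hM
  subsingleton_hc_isAffineOpen M (IsAffineOpen.preimage (U := V) hV f) q

theorem abFPushIso_natural {M N : X.Modules} (φ : M ⟶ N) :
    (abF Y).map ((Scheme.Modules.pushforward f).map φ) ≫ (abFPushIso f N).hom =
      (abFPushIso f M).hom ≫ (CohTop.push (f.base : sp X ⟶ sp Y)).map ((abF X).map φ) := by
  apply CategoryTheory.Sheaf.hom_ext
  exact NatTrans.ext (funext fun V => AddCommGrpCat.ext fun x => rfl)

/-- Global cohomology of direct images along an affine morphism, naturally in the quasi-coherent module. -/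
theorem exists_HH_push_natural [IsAffineHom f] (p : ℕ) :
    ∃ T : ∀ M : X.Modules, Coh.IsQCoh M →
        (Coh.HH Y ((Scheme.Modules.pushforward f).obj M) p ≃+ Coh.HH X M p),
      ∀ (M N : X.Modules) (hM : Coh.IsQCoh M) (hN : Coh.IsQCoh N) (φ : M ⟶ N) x,
        T N hN (Sheaf.H.map ((SheafOfModules.toSheaf _).map ((Scheme.Modules.pushforward f).map φ)) p x) =
          Sheaf.H.map ((SheafOfModules.toSheaf _).map φ) p (T M hM x) := by
  obtain ⟨ε, hε⟩ := exists_hc_push_natural (f.base : sp X ⟶ sp Y) Y.isBasis_affineOpens p ⊤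
  refine ⟨fun M hM => ((hhExt _ p).trans ((mpEquiv (abFPushIso f M) p ⊤).trans
    (ε _ (pushAcyclic_of_isAffineHom f M hM p)))).trans (hhExt M p).symm, fun M N hM hN φ x => ?_⟩
  refine (hhExt N p).injective ?_
  simp only [AddEquiv.trans_apply]
  refine ((hhExt N p).apply_symm_apply _).trans ?_
  refine Eq.trans ?_ (hExt_map ((abF X).map φ) p _).symm
  refine Eq.trans ?_ (congrArg (mp ((abF X).map φ) p ⊤) ((hhExt M p).apply_symm_apply _).symm)
  refine Eq.trans ?_ (hε _ _ (pushAcyclic_of_isAffineHom f M hM p)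
    (pushAcyclic_of_isAffineHom f N hN p) ((abF X).map φ) _)
  refine congrArg (ε _ _) ?_
  refine (congrArg (mpEquiv (abFPushIso f N) p ⊤)
    (hExt_map ((abF Y).map ((Scheme.Modules.pushforward f).map φ)) p x)).trans ?_
  exact (mp_comp _ _ p ⊤ _).symm.trans
    ((congrArg (fun χ => mp χ p ⊤ (hhExt _ p x)) (abFPushIso_natural f φ)).trans (mp_comp _ _ p ⊤ _))

end Scheme

end Groth.Agent.PushNatH7
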